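import Cfsg.Agent.Lib.BoundedPres.Kappa

/-!
A group of three-cycles through two points is generated by one element and its conjugate under the
exchange of the two points.
-/

set_option autoImplicit false
set_option linter.unusedSectionVars false

namespace Cfsg.Agent.BoundedPres

open Equiv

variable {Ω : Type*} [DecidableEq Ω] [Fintype Ω] {a b : Ω} {s : Finset Ω}

theorem cyc_conj (g : Perm Ω) (a b i : Ω) : g * cyc a b i * g⁻¹ = cyc (g a) (g b) (g i) := by
  rw [cyc, cyc, show g * (swap a i * swap a b) * g⁻¹ = g * swap a i * g⁻¹ * (g * swap a b * g⁻¹) by group,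
    ← Equiv.swap_apply_apply, ← Equiv.swap_apply_apply]

theorem cyc_flip (hab : a ≠ b) {k : Ω} (hka : k ≠ a) (hkb : k ≠ b) : (cyc b a k)⁻¹ = cyc a b k := by
  rw [cyc_inv, cyc, swap_comm b a]
  have h : swap a k = swap a b * swap b k * (swap a b)⁻¹ := by
    rw [← Equiv.swap_apply_apply, swap_apply_right]
    rw [swap_apply_of_ne_of_ne hka hkb]
  rw [h, swap_inv, mul_assoc _ (swap a b) (swap a b), swap_mul_self, mul_one]

/-- One element and its flip generate. -/
theorem exists_gen_flip (hs : Good a b s) :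
    ∃ x : Perm Ω, x ∈ Cs a b s ∧ (∀ k, k ≠ a → k ≠ b → k ∉ s → x k = k) ∧
      ∀ K : Subgroup (Perm Ω), x ∈ K → swap a b * x * (swap a b)⁻¹ ∈ K → Cs a b s ≤ K := by
  classical
  rcases s.eq_empty_or_nonempty with rfl | hne
  · refine ⟨1, one_mem _, fun _ _ _ _ => rfl, fun K _ _ => ?_⟩
    rw [Cs, Finset.coe_empty, Set.image_empty, Subgroup.closure_empty]
    exact bot_le
  obtain ⟨m, hm⟩ : ∃ m, s.card = m + 1 := ⟨s.card - 1, by have := hne.card_pos; omega⟩
  let e : Fin (m + 1) ≃ {x // x ∈ s} := (Fintype.equivFinOfCardEq (by rw [Fintype.card_coe, hm])).symm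
  let π : Perm {x // x ∈ s} := e.permCongr (finRotate (m + 1))
  have hπ : ∀ k : Fin (m + 1), π (e k) = e (finRotate (m + 1) k) := fun k => by
    simp [π, Equiv.permCongr_apply]
  set i1 : Ω := (e (Fin.last m) : Ω) with hi1
  set j1 : Ω := (e 0 : Ω) with hj1
  have hi1s : i1 ∈ s := (e _).2
  have hj1s : j1 ∈ s := (e _).2
  refine ⟨kap hs π * cyc a b i1, mul_mem (kap_mem hs subset_rfl π) (cyc_mem hi1s), fun k hka hkb hks => ?_,
    fun K hx hx' => ?_⟩
  · rw [Perm.mul_apply, cyc_fix hka hkb fun h => hks (h ▸ hi1s), kap_apply, Perm.mul_apply,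
      flipPow_fix hka hkb, Perm.ofSubtype_apply_of_not_mem π hks]
  set x := kap hs π * cyc a b i1 with hxdef
  have hw : swap (x a) (x b) * swap a b ∈ K := by
    have := mul_mem hx (inv_mem hx')
    rwa [show x * (swap a b * x * (swap a b)⁻¹)⁻¹ = x * swap a b * x⁻¹ * (swap a b)⁻¹ by group,
      ← Equiv.swap_apply_apply, swap_inv] at this
  have hkj : kap hs π i1 = j1 := by
    rw [hi1, kap_coe, hπ, finRotate_last]
  have hxb : x b = j1 := by rw [hxdef, Perm.mul_apply, cyc_b, hkj]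
  have hxi : ∀ k : Fin (m + 1), k ≠ Fin.last m → x (e k) = (e (finRotate (m + 1) k) : Ω) := by
    intro k hk
    have hne : ((e k : {x // x ∈ s}) : Ω) ≠ i1 := fun h => hk (e.injective (Subtype.ext h))
    rw [hxdef, Perm.mul_apply, cyc_fix (hs.ne_a (e k).2) (hs.ne_b (e k).2) hne, kap_coe, hπ]
  have hxa : x a = b ∨ x a = a := by
    rw [hxdef, Perm.mul_apply, cyc_a hs.ne (hs.ne_b hi1s), kap_apply, Perm.mul_apply]
    rcases Int.units_eq_one_or (Perm.sign π) with h | h
    · left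
      rw [h, map_one, Perm.one_apply]
      exact Perm.ofSubtype_apply_of_not_mem π hs.hb
    · right
      rw [h, show flipPow a b (-1 : ℤˣ) = (swap a b : Perm Ω) from
        if_neg (t := (1 : Perm Ω)) (show ¬((-1 : ℤˣ) = 1) by decide), swap_apply_right]
      exact Perm.ofSubtype_apply_of_not_mem π hs.ha
  have haj : a ≠ j1 := (hs.ne_a hj1s).symm
  have hbj : b ≠ j1 := (hs.ne_b hj1s).symm
  -- the first three-cycle
  have hfirst : cyc a b j1 ∈ K := by
    rcases hxa with h | h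
    · rw [h, hxb] at hw
      have e1 : swap b j1 * swap a b = (cyc a b j1)⁻¹ := by
        rw [cyc_flip hs.ne.symm hbj.symm haj.symm, cyc, swap_comm b a]
      rw [e1] at hw
      exact inv_mem_iff.1 hw
    · rw [h, hxb] at hw
      exact hw
  have hstep : ∀ i k : Ω, k ≠ a → k ≠ b → k ≠ j1 → x i = k → cyc a b i ∈ K → cyc a b k ∈ K := by
    intro i k hka hkb hkj hik hi
    have hu : cyc (x a) j1 k ∈ K := by
      rw [← hxb, ← hik, ← cyc_conj]
      exact mul_mem (mul_mem hx hi) (inv_mem hx)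
    rcases hxa with h | h
    · rw [h] at hu
      have := mul_mem (mul_mem (inv_mem hfirst) hu) hfirst
      rw [show (cyc a b j1)⁻¹ * cyc b j1 k * cyc a b j1 =
        (cyc a b j1)⁻¹ * cyc b j1 k * ((cyc a b j1)⁻¹)⁻¹ by rw [inv_inv], cyc_conj] at this
      have e1 : (cyc a b j1)⁻¹ b = a := Perm.inv_eq_iff_eq.2 (cyc_a hs.ne hbj.symm).symm
      have e2 : (cyc a b j1)⁻¹ j1 = b := Perm.inv_eq_iff_eq.2 cyc_b.symm
      have e3 : (cyc a b j1)⁻¹ k = k := Perm.inv_eq_iff_eq.2 (cyc_fix hka hkb hkj).symm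
      rwa [e1, e2, e3] at this
    · rw [h] at hu
      have := inv_mem (mul_mem (mul_mem hfirst hu) (inv_mem hfirst))
      rw [cyc_conj, cyc_a hs.ne hbj.symm, cyc_i haj.symm hbj.symm, cyc_fix hka hkb hkj,
        cyc_flip hs.ne hka hkb] at this
      exact this
  have hall : ∀ (n : ℕ) (hn : n < m + 1), cyc a b (e ⟨n, hn⟩) ∈ K := by
    intro n
    induction n with
    | zero => intro hn; exact hfirst
    | succ n ih =>
      intro hn
      have hk : (⟨n, by omega⟩ : Fin (m + 1)) ≠ Fin.last m := fun h => by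
        have := congrArg Fin.val h
        simp at this
        omega
      refine hstep _ _ (hs.ne_a (e _).2) (hs.ne_b (e _).2) (fun h => ?_) ?_ (ih (by omega))
      · have := congrArg Fin.val (e.injective (Subtype.ext h))
        simp at this
      · rw [hxi _ hk]
        congr 2
        exact Fin.ext (by rw [coe_finRotate_of_ne_last hk])
  rw [Cs, Subgroup.closure_le]
  rintro _ ⟨i, hi, rfl⟩
  obtain ⟨k, hk⟩ := e.surjective ⟨i, Finset.mem_coe.1 hi⟩
  have := hall k.val k.isLt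
  rwa [Fin.eta, hk] at this

theorem flip_mem {x : Perm Ω} (hx : x ∈ Cs a b s) : swap a b * x * (swap a b)⁻¹ ∈ Cs a b s := by
  have h : Cs a b s ≤ (Cs a b s).comap (MulAut.conj (swap a b)).toMonoidHom := by
    conv_lhs => rw [Cs]
    rw [Subgroup.closure_le]
    rintro _ ⟨i, hi, rfl⟩
    show swap a b * cyc a b i * (swap a b)⁻¹ ∈ Cs a b s
    rw [show swap a b * cyc a b i * (swap a b)⁻¹ = (cyc a b i)⁻¹ by
      rw [cyc_inv, cyc, swap_inv, mul_assoc, mul_assoc, swap_mul_self, mul_one]]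
    exact inv_mem (cyc_mem (Finset.mem_coe.1 hi))
  exact h hx

/-- Two generators. -/
theorem exists_two_gen (hs : Good a b s) :
    ∃ u v : Cs a b s, ∀ (G : Type) [Group G] (f g : Cs a b s →* G), f u = g u → f v = g v → f = g := by
  obtain ⟨x, hx, -, hK⟩ := exists_gen_flip hs
  refine ⟨⟨x, hx⟩, ⟨_, flip_mem hx⟩, fun G _ f g h1 h2 => hom_ext fun i hi => ?_⟩
  obtain ⟨y, hy, hyv⟩ := hK ((f.eqLocus g).map (Cs a b s).subtype) ⟨_, h1, rfl⟩ ⟨_, h2, rfl⟩ (cyc_mem hi)
  exact (Subtype.ext hyv : y = ⟨cyc a b i, cyc_mem hi⟩) ▸ hy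

end Cfsg.Agent.BoundedPres
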