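import Cfsg.Agent.Lib.BoundedPres.Short.Cycle
import Cfsg.Agent.Lib.BoundedPres.Short.Base
import Cfsg.Agent.Lib.BoundedPres.Glue

/-!
Gluing two alternating groups along an overlap with four relations, and alternating groups on four
generators and sixteen relations.
-/

set_option autoImplicit false
set_option linter.unusedSectionVars false
set_option linter.unusedVariables false
set_option linter.style.haveILetI false
set_option maxHeartbeats 400000

namespace Cfsg.Agent.BoundedPres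

open Equiv
open scoped commutatorElement

variable {Ω : Type*} [DecidableEq Ω] [Fintype Ω] {a b e c : Ω} {S sA sB : Finset Ω}

theorem cyc3_mem (hS : Good a b S) {j : Ω} (he : e ∈ S) (hc : c ∈ S) (hj : j ∈ S) (hec : e ≠ c)
    (hje : j ≠ e) : cyc e c j ∈ Cs a b S := by
  have h := kap_mem hS subset_rfl (swap (⟨e, he⟩ : {x // x ∈ S}) ⟨j, hj⟩ * swap ⟨e, he⟩ ⟨c, hc⟩)
  have h1 : Perm.sign (swap (⟨e, he⟩ : {x // x ∈ S}) ⟨j, hj⟩ * swap ⟨e, he⟩ ⟨c, hc⟩) = 1 := by
    rw [map_mul, Perm.sign_swap (fun h => hje.symm (congrArg Subtype.val h)),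
      Perm.sign_swap (fun h => hec (congrArg Subtype.val h))]
    rfl
  rw [kap_apply, h1, map_one, mul_one, map_mul, Perm.ofSubtype_swap_eq, Perm.ofSubtype_swap_eq] at h
  exact h

theorem exchange_eq (hS : Good a b S) (he : e ∈ S) (hc : c ∈ S) (hec : e ≠ c) :
    kap hS (swap (⟨e, he⟩ : {x // x ∈ S}) ⟨c, hc⟩) = swap e c * swap a b := by
  rw [kap_apply, Perm.sign_swap (fun h => hec (congrArg Subtype.val h)), Perm.ofSubtype_swap_eq,
    show flipPow a b (-1 : ℤˣ) = (swap a b : Perm Ω) from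
      if_neg (t := (1 : Perm Ω)) (show ¬((-1 : ℤˣ) = 1) by decide)]

theorem commute_swap_of_fix {x : Perm Ω} {p q : Ω} (hp : x p = p) (hq : x q = q) :
    Commute x (swap p q) := by
  show x * swap p q = swap p q * x
  rw [← mul_inv_eq_iff_eq_mul, ← Equiv.swap_apply_apply, hp, hq]

theorem Cs_fix {g : Perm Ω} (hg : g ∈ Cs a b S) {z : Ω} (hza : z ≠ a) (hzb : z ≠ b) (hz : z ∉ S) :
    g z = z := by
  have h : Cs a b S ≤ MulAction.stabilizer (Perm Ω) z := by
    rw [Cs, Subgroup.closure_le]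
    rintro _ ⟨i, hi, rfl⟩
    exact cyc_fix hza hzb fun h => hz (h ▸ Finset.mem_coe.1 hi)
  exact h hg

section overlap

variable (hs : Good a b (sA ∪ sB)) (he : e ∈ sA ∩ sB) (hc : c ∈ sA ∩ sB) (hec : e ≠ c)
include hs he hc

theorem ec_ne : e ≠ a ∧ e ≠ b ∧ c ≠ a ∧ c ≠ b :=
  ⟨hs.ne_a (Finset.mem_union_left _ (Finset.mem_inter.1 he).1),
    hs.ne_b (Finset.mem_union_left _ (Finset.mem_inter.1 he).1),
    hs.ne_a (Finset.mem_union_left _ (Finset.mem_inter.1 hc).1),
    hs.ne_b (Finset.mem_union_left _ (Finset.mem_inter.1 hc).1)⟩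

include hec in
theorem good_B : Good e c (sB \ sA) :=
  ⟨hec, fun h => (Finset.mem_sdiff.1 h).2 (Finset.mem_inter.1 he).1,
    fun h => (Finset.mem_sdiff.1 h).2 (Finset.mem_inter.1 hc).1⟩

theorem good_A : Good a b (sA \ sB) :=
  hs.subset (Finset.sdiff_subset.trans Finset.subset_union_left)

theorem good_O : Good a b (sA ∩ sB) :=
  hs.subset (Finset.inter_subset_left.trans Finset.subset_union_left)

include hec in
theorem B_le : Cs e c (sB \ sA) ≤ Cs a b sB := by
  rw [Cs, Subgroup.closure_le]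
  rintro _ ⟨j, hj, rfl⟩
  have hj' := Finset.mem_sdiff.1 (Finset.mem_coe.1 hj)
  exact cyc3_mem (hs.subset Finset.subset_union_right) (Finset.mem_inter.1 he).2 (Finset.mem_inter.1 hc).2 hj'.1
    hec ((good_B hs he hc hec).ne_a (Finset.mem_coe.1 hj))

theorem B_fix_ab {g : Perm Ω} (hg : g ∈ Cs e c (sB \ sA)) : Commute g (swap a b) := by
  obtain ⟨hea, heb, hca, hcb⟩ := ec_ne hs he hc
  exact commute_swap_of_fix
    (Cs_fix hg hea.symm hca.symm fun h => hs.ha (Finset.mem_union_right _ (Finset.mem_sdiff.1 h).1))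
    (Cs_fix hg heb.symm hcb.symm fun h => hs.hb (Finset.mem_union_right _ (Finset.mem_sdiff.1 h).1))

theorem A_fix_ec {g : Perm Ω} (hg : g ∈ Cs a b (sA \ sB)) : Commute g (swap e c) := by
  obtain ⟨hea, heb, hca, hcb⟩ := ec_ne hs he hc
  exact commute_swap_of_fix
    (Cs_fix hg hea heb fun h => (Finset.mem_sdiff.1 h).2 (Finset.mem_inter.1 he).2)
    (Cs_fix hg hca hcb fun h => (Finset.mem_sdiff.1 h).2 (Finset.mem_inter.1 hc).2)

theorem sides_commute {g h : Perm Ω} (hg : g ∈ Cs a b (sA \ sB)) (hh : h ∈ Cs e c (sB \ sA)) :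
    Commute g h := by
  obtain ⟨hea, heb, hca, hcb⟩ := ec_ne hs he hc
  refine Perm.Disjoint.commute fun z => ?_
  by_cases hz : z = a ∨ z = b ∨ z ∈ sA \ sB
  · right
    refine Cs_fix hh ?_ ?_ ?_
    · rintro rfl
      rcases hz with h | h | h
      · exact hea h
      · exact heb h
      · exact (Finset.mem_sdiff.1 h).2 (Finset.mem_inter.1 he).2
    · rintro rfl
      rcases hz with h | h | h
      · exact hca h
      · exact hcb h
      · exact (Finset.mem_sdiff.1 h).2 (Finset.mem_inter.1 hc).2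
    · intro h'
      rcases hz with h | h | h
      · exact hs.ha (Finset.mem_union_right _ (h ▸ (Finset.mem_sdiff.1 h').1))
      · exact hs.hb (Finset.mem_union_right _ (h ▸ (Finset.mem_sdiff.1 h').1))
      · exact (Finset.mem_sdiff.1 h').2 (Finset.mem_sdiff.1 h).1
  · left
    push Not at hz
    exact Cs_fix hg hz.1 hz.2.1 hz.2.2

theorem exch_A {g : Perm Ω} (hg : g ∈ Cs a b (sA \ sB)) :
    swap e c * swap a b * g * (swap e c * swap a b)⁻¹ = swap a b * g * (swap a b)⁻¹ := by
  have h := A_fix_ec hs he hc (flip_mem hg)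
  rw [show swap e c * swap a b * g * (swap e c * swap a b)⁻¹ =
    swap e c * (swap a b * g * (swap a b)⁻¹) * (swap e c)⁻¹ by group, ← h.eq, mul_inv_cancel_right]

theorem exch_B {g : Perm Ω} (hg : g ∈ Cs e c (sB \ sA)) :
    swap e c * swap a b * g * (swap e c * swap a b)⁻¹ = swap e c * g * (swap e c)⁻¹ := by
  have h := B_fix_ab hs he hc hg
  rw [show swap e c * swap a b * g * (swap e c * swap a b)⁻¹ =
    swap e c * (swap a b * g * (swap a b)⁻¹) * (swap e c)⁻¹ by group, ← h.eq, mul_inv_cancel_right]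

variable {G : Type} [Group G] (φA : Cs a b sA →* G) (φB : Cs a b sB →* G)

include hec in
/-- Two commutation relations make the sides commute. -/
theorem glue_comm (σ : Cs a b (sA ∩ sB)) (hσ : (σ : Perm Ω) = swap e c * swap a b)
    (hO : φA.comp (Subgroup.inclusion (Cs_mono Finset.inter_subset_left)) =
      φB.comp (Subgroup.inclusion (Cs_mono Finset.inter_subset_right)))
    (x : Cs a b (sA \ sB))
    (hxgen : ∀ K : Subgroup (Perm Ω), (x : Perm Ω) ∈ K → swap a b * x * (swap a b)⁻¹ ∈ K →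
      Cs a b (sA \ sB) ≤ K)
    (y y' : Cs e c (sB \ sA)) (hy' : (y' : Perm Ω) = swap e c * y * (swap e c)⁻¹)
    (hygen : ∀ K : Subgroup (Perm Ω), (y : Perm Ω) ∈ K → swap e c * y * (swap e c)⁻¹ ∈ K →
      Cs e c (sB \ sA) ≤ K)
    (h1 : Commute (φA (Subgroup.inclusion (Cs_mono (Finset.sdiff_subset (s := sA) (t := sB))) x))
      (φB (Subgroup.inclusion (B_le hs he hc hec) y)))
    (h2 : Commute (φA (Subgroup.inclusion (Cs_mono (Finset.sdiff_subset (s := sA) (t := sB))) x))
      (φB (Subgroup.inclusion (B_le hs he hc hec) y'))) :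
    ∀ h g, Commute (φA (Subgroup.inclusion (Cs_mono (Finset.sdiff_subset (s := sA) (t := sB))) h))
      (φB (Subgroup.inclusion (B_le hs he hc hec) g)) := by
  let jA : Cs a b (sA \ sB) →* Cs a b sA := Subgroup.inclusion (Cs_mono (Finset.sdiff_subset (s := sA) (t := sB)))
  let jB : Cs e c (sB \ sA) →* Cs a b sB := Subgroup.inclusion (B_le hs he hc hec)
  let oA : Cs a b (sA ∩ sB) →* Cs a b sA := Subgroup.inclusion (Cs_mono Finset.inter_subset_left)
  let oB : Cs a b (sA ∩ sB) →* Cs a b sB := Subgroup.inclusion (Cs_mono Finset.inter_subset_right)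
  have c1 : ∀ g, Commute (φA (jA x)) (φB (jB g)) := by
    intro g
    have hK := hygen (((Subgroup.centralizer {φA (jA x)}).comap (φB.comp jB)).map (Cs e c (sB \ sA)).subtype)
      ⟨y, Subgroup.mem_centralizer_singleton_iff.2 h1.symm.eq, rfl⟩
      ⟨y', Subgroup.mem_centralizer_singleton_iff.2 h2.symm.eq, hy'⟩
    obtain ⟨g', hg', hgv⟩ := hK g.2
    obtain rfl : g' = g := Subtype.ext hgv
    exact (Subgroup.mem_centralizer_singleton_iff.1 hg').symm
  intro h g
  let x' : Cs a b (sA \ sB) := ⟨_, flip_mem x.2⟩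
  have hx' : Commute (φA (jA x')) (φB (jB g)) := by
    have e1 : jA x' = oA σ * jA x * (oA σ)⁻¹ := Subtype.ext (by
      show swap a b * (x : Perm Ω) * (swap a b)⁻¹ = (σ : Perm Ω) * x * (σ : Perm Ω)⁻¹
      rw [hσ, exch_A hs he hc x.2])
    let g' : Cs e c (sB \ sA) := ⟨_, flip_mem g.2⟩
    have e2 : jB g = oB σ * jB g' * (oB σ)⁻¹ := Subtype.ext (by
      show (g : Perm Ω) = (σ : Perm Ω) * (swap e c * g * (swap e c)⁻¹) * (σ : Perm Ω)⁻¹
      rw [hσ, exch_B hs he hc g'.2]
      simp [g', mul_assoc, swap_inv])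
    have hOσ : φA (oA σ) = φB (oB σ) := DFunLike.congr_fun hO σ
    rw [e1, map_mul, map_mul, map_inv, hOσ, e2, map_mul, map_mul, map_inv]
    exact (c1 g').map (MulAut.conj (φB (oB σ))).toMonoidHom
  have hK := hxgen (((Subgroup.centralizer {φB (jB g)}).comap (φA.comp jA)).map (Cs a b (sA \ sB)).subtype)
    ⟨x, Subgroup.mem_centralizer_singleton_iff.2 (c1 g).eq, rfl⟩
    ⟨x', Subgroup.mem_centralizer_singleton_iff.2 hx'.eq, rfl⟩
  obtain ⟨h', hh', hhv⟩ := hK h.2
  obtain rfl : h' = h := Subtype.ext hhv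
  exact Subgroup.mem_centralizer_singleton_iff.1 hh'

include hec in
/-- Commuting sides give the union. -/
theorem glue_hom
    (hO : φA.comp (Subgroup.inclusion (Cs_mono Finset.inter_subset_left)) =
      φB.comp (Subgroup.inclusion (Cs_mono Finset.inter_subset_right)))
    (hcm : ∀ h g, Commute (φA (Subgroup.inclusion (Cs_mono (Finset.sdiff_subset (s := sA) (t := sB))) h))
      (φB (Subgroup.inclusion (B_le hs he hc hec) g))) :
    ∃ f : Cs a b (sA ∪ sB) →* G,
      f.comp (Subgroup.inclusion (Cs_mono Finset.subset_union_left)) = φA ∧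
      f.comp (Subgroup.inclusion (Cs_mono Finset.subset_union_right)) = φB := by
  classical
  obtain ⟨hea, heb, hca, hcb⟩ := ec_ne hs he hc
  have hsA := hs.subset (Finset.subset_union_left (s₂ := sB))
  have hsB := hs.subset (Finset.subset_union_right (s₁ := sA))
  let X : Ω → G := fun i => if i ∈ sA then φA (cel a b sA i) else φB (cel a b sB i)
  have hXA : ∀ i ∈ sA, X i = φA (cel a b sA i) := fun i hi => if_pos hi
  have hXB : ∀ i ∈ sB, X i = φB (cel a b sB i) := fun i hi => by
    by_cases h : i ∈ sA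
    · rw [hXA i h]
      have hi' : i ∈ sA ∩ sB := Finset.mem_inter.2 ⟨h, hi⟩
      have := DFunLike.congr_fun hO ⟨cyc a b i, cyc_mem hi'⟩
      rw [MonoidHom.comp_apply, MonoidHom.comp_apply] at this
      refine (congrArg φA (Subtype.ext (cel_val h))).trans (this.trans (congrArg φB (Subtype.ext ?_)))
      exact (cel_val hi).symm
    · exact if_neg h
  have cA : ∀ i ∈ sA, cel a b sA i ^ 3 = 1 := fun i hi => Subtype.ext (by
    rw [SubmonoidClass.coe_pow, cel_val hi]; exact (carRel_cyc hsA).cube i hi)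
  have cB : ∀ i ∈ sB, cel a b sB i ^ 3 = 1 := fun i hi => Subtype.ext (by
    rw [SubmonoidClass.coe_pow, cel_val hi]; exact (carRel_cyc hsB).cube i hi)
  have pA : ∀ i ∈ sA, ∀ j ∈ sA, i ≠ j → (cel a b sA i * cel a b sA j) ^ 2 = 1 :=
    fun i hi j hj hij => Subtype.ext (by
      rw [SubmonoidClass.coe_pow, Subgroup.coe_mul, cel_val hi, cel_val hj]
      exact (carRel_cyc hsA).pair i hi j hj hij)
  have pB : ∀ i ∈ sB, ∀ j ∈ sB, i ≠ j → (cel a b sB i * cel a b sB j) ^ 2 = 1 :=
    fun i hi j hj hij => Subtype.ext (by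
      rw [SubmonoidClass.coe_pow, Subgroup.coe_mul, cel_val hi, cel_val hj]
      exact (carRel_cyc hsB).pair i hi j hj hij)
  have hcross : ∀ i ∈ sA \ sB, ∀ j ∈ sB \ sA, (φA (cel a b sA i) * φB (cel a b sB j)) ^ 2 = 1 := by
    intro i hi j hj
    have hi' := Finset.mem_sdiff.1 hi
    have hj' := Finset.mem_sdiff.1 hj
    have hcA := (Finset.mem_inter.1 hc).1
    have hcB := (Finset.mem_inter.1 hc).2
    let jB : Cs e c (sB \ sA) →* Cs a b sB := Subgroup.inclusion (B_le hs he hc hec)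
    let g : Cs e c (sB \ sA) := ⟨cyc e c j, cyc_mem hj⟩
    have hcm := hcm ⟨cyc a b i, cyc_mem hi⟩ g
    rw [show Subgroup.inclusion (Cs_mono (Finset.sdiff_subset (s := sA) (t := sB)))
      ⟨cyc a b i, cyc_mem hi⟩ = cel a b sA i from Subtype.ext (cel_val hi'.1).symm] at hcm
    have hgc : jB g * cel a b sB c * (jB g)⁻¹ = cel a b sB j := by
      refine Subtype.ext ?_
      rw [Subgroup.coe_mul, Subgroup.coe_mul, Subgroup.coe_inv, cel_val hcB, cel_val hj'.1]
      show cyc e c j * cyc a b c * (cyc e c j)⁻¹ = _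
      rw [cyc_conj, cyc_fix hea.symm hca.symm (hsB.ne_a hj'.1).symm,
        cyc_fix heb.symm hcb.symm (hsB.ne_b hj'.1).symm, cyc_b]
    have hpair : (φA (cel a b sA i) * φB (cel a b sB c)) ^ 2 = 1 := by
      rw [← hXB c hcB, hXA c hcA, ← map_mul, ← map_pow, pA i hi'.1 c hcA (fun h => hi'.2 (h ▸ hcB)),
        map_one]
    rw [← hgc, map_mul, map_mul, map_inv,
      show φA (cel a b sA i) * (φB (jB g) * φB (cel a b sB c) * (φB (jB g))⁻¹) =
        φB (jB g) * (φA (cel a b sA i) * φB (cel a b sB c)) * (φB (jB g))⁻¹ by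
        rw [← mul_assoc, ← mul_assoc, ← mul_assoc, hcm.eq],
      conj_pow, hpair, mul_one, mul_inv_cancel]
  have hX : CarRel X (sA ∪ sB) := by
    refine ⟨fun i hi => ?_, fun i hi j hj hij => ?_⟩
    · rcases Finset.mem_union.1 hi with h | h
      · rw [hXA i h, ← map_pow, cA i h, map_one]
      · rw [hXB i h, ← map_pow, cB i h, map_one]
    · by_cases hiA : i ∈ sA <;> by_cases hjA : j ∈ sA
      · rw [hXA i hiA, hXA j hjA, ← map_mul, ← map_pow, pA i hiA j hjA hij, map_one]
      · have hjB := (Finset.mem_union.1 hj).resolve_left hjA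
        by_cases hiB : i ∈ sB
        · rw [hXB i hiB, hXB j hjB, ← map_mul, ← map_pow, pB i hiB j hjB hij, map_one]
        · rw [hXA i hiA, hXB j hjB]
          exact hcross i (Finset.mem_sdiff.2 ⟨hiA, hiB⟩) j (Finset.mem_sdiff.2 ⟨hjB, hjA⟩)
      · have hiB := (Finset.mem_union.1 hi).resolve_left hiA
        by_cases hjB : j ∈ sB
        · rw [hXB i hiB, hXB j hjB, ← map_mul, ← map_pow, pB i hiB j hjB hij, map_one]
        · rw [hXB i hiB, hXA j hjA]
          exact pair_symm (hcross j (Finset.mem_sdiff.2 ⟨hjA, hjB⟩) i (Finset.mem_sdiff.2 ⟨hiB, hiA⟩))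
      · have hiB := (Finset.mem_union.1 hi).resolve_left hiA
        have hjB := (Finset.mem_union.1 hj).resolve_left hjA
        rw [hXB i hiB, hXB j hjB, ← map_mul, ← map_pow, pB i hiB j hjB hij, map_one]
  obtain ⟨f, hf⟩ := car_hom hs X hX
  refine ⟨f, hom_ext fun i hi => ?_, hom_ext fun i hi => ?_⟩
  · rw [MonoidHom.comp_apply, show Subgroup.inclusion (Cs_mono Finset.subset_union_left) ⟨cyc a b i, cyc_mem hi⟩ =
      ⟨cyc a b i, cyc_mem (Finset.mem_union_left sB hi)⟩ from rfl, hf i (Finset.mem_union_left _ hi), hXA i hi]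
    exact congrArg φA (Subtype.ext (cel_val hi))
  · rw [MonoidHom.comp_apply, show Subgroup.inclusion (Cs_mono Finset.subset_union_right) ⟨cyc a b i, cyc_mem hi⟩ =
      ⟨cyc a b i, cyc_mem (Finset.mem_union_right sA hi)⟩ from rfl, hf i (Finset.mem_union_right _ hi), hXB i hi]
    exact congrArg φB (Subtype.ext (cel_val hi))

include hec in
theorem presG_glue {gA gB rA rB : ℕ} (hA : PresG (Cs a b sA) gA rA) (hB : PresG (Cs a b sB) gB rB) :
    PresG (Cs a b (sA ∪ sB)) (gA + gB) (rA + rB + 4) := by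
  classical
  have hGB := good_B hs he hc hec
  have hGA := good_A hs he hc
  have hGO := good_O hs he hc
  let jA : Cs a b (sA \ sB) →* Cs a b sA := Subgroup.inclusion (Cs_mono Finset.sdiff_subset)
  let jB : Cs e c (sB \ sA) →* Cs a b sB := Subgroup.inclusion (B_le hs he hc hec)
  let oA : Cs a b (sA ∩ sB) →* Cs a b sA := Subgroup.inclusion (Cs_mono Finset.inter_subset_left)
  let oB : Cs a b (sA ∩ sB) →* Cs a b sB := Subgroup.inclusion (Cs_mono Finset.inter_subset_right)
  let ιA : Cs a b sA →* Cs a b (sA ∪ sB) := Subgroup.inclusion (Cs_mono Finset.subset_union_left)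
  let ιB : Cs a b sB →* Cs a b (sA ∪ sB) := Subgroup.inclusion (Cs_mono Finset.subset_union_right)
  obtain ⟨x, hx, -, hxgen⟩ := exists_gen_flip hGA
  obtain ⟨y, hy, -, hygen⟩ := exists_gen_flip hGB
  obtain ⟨o1, o2, ho⟩ := exists_two_gen hGO
  let y0 : Cs e c (sB \ sA) := ⟨y, hy⟩
  let y1 : Cs e c (sB \ sA) := ⟨_, flip_mem hy⟩
  let x0 : Cs a b (sA \ sB) := ⟨x, hx⟩
  let σ : Cs a b (sA ∩ sB) := kapC hGO subset_rfl (swap (⟨e, he⟩ : {z // z ∈ sA ∩ sB}) ⟨c, hc⟩)
  obtain ⟨α, hα, RA, vA, hgA, hRA, hvA, hgenA, huA⟩ := hA.exists_data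
  obtain ⟨β, hβ, RB, vB, hgB, hRB, hvB, hgenB, huB⟩ := hB.exists_data
  choose preA hpreA using fun g => exists_word vA (t := g) (hgenA ▸ Subgroup.mem_top g)
  choose preB hpreB using fun g => exists_word vB (t := g) (hgenB ▸ Subgroup.mem_top g)
  let WA : Cs a b sA → FreeGroup (α ⊕ β) := fun g => FreeGroup.map Sum.inl (preA g)
  let WB : Cs a b sB → FreeGroup (α ⊕ β) := fun g => FreeGroup.map Sum.inr (preB g)
  let L : List (FreeGroup (α ⊕ β)) := [WA (oA o1) * (WB (oB o1))⁻¹, WA (oA o2) * (WB (oB o2))⁻¹,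
    ⁅WA (jA x0), WB (jB y0)⁆, ⁅WA (jA x0), WB (jB y1)⁆]
  let R := RA.image (FreeGroup.map Sum.inl) ∪ RB.image (FreeGroup.map Sum.inr) ∪ L.toFinset
  have hcard : R.card ≤ RA.card + RB.card + 4 := by
    refine (Finset.card_union_le _ _).trans (Nat.add_le_add ?_ (List.toFinset_card_le L))
    exact (Finset.card_union_le _ _).trans (Nat.add_le_add Finset.card_image_le Finset.card_image_le)
  let v : α ⊕ β → Cs a b (sA ∪ sB) := Sum.elim (ιA ∘ vA) (ιB ∘ vB)
  have hlA : (FreeGroup.lift v).comp (FreeGroup.map Sum.inl) = ιA.comp (FreeGroup.lift vA) :=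
    FreeGroup.ext_hom _ _ fun i => by simp [v]
  have hlB : (FreeGroup.lift v).comp (FreeGroup.map Sum.inr) = ιB.comp (FreeGroup.lift vB) :=
    FreeGroup.ext_hom _ _ fun i => by simp [v]
  have hWA : ∀ g, FreeGroup.lift v (WA g) = ιA g := fun g => by
    refine (DFunLike.congr_fun hlA (preA g)).trans ?_
    rw [MonoidHom.comp_apply, hpreA]
  have hWB : ∀ g, FreeGroup.lift v (WB g) = ιB g := fun g => by
    refine (DFunLike.congr_fun hlB (preB g)).trans ?_
    rw [MonoidHom.comp_apply, hpreB]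
  refine (PresG.of_data R hcard v ?_ ?_ ?_).pad (by rw [Fintype.card_sum]; omega)
    (by rw [Fintype.card_sum]; omega)
  · intro z hz
    simp only [R, L, Finset.mem_union, Finset.mem_image, List.mem_toFinset, List.mem_cons,
      List.not_mem_nil, or_false] at hz
    rcases hz with (⟨u, hu, rfl⟩ | ⟨u, hu, rfl⟩) | rfl | rfl | rfl | rfl
    · rw [show FreeGroup.lift v (FreeGroup.map Sum.inl u) = ιA (FreeGroup.lift vA u) from
        DFunLike.congr_fun hlA u, hvA u hu, map_one]
    · rw [show FreeGroup.lift v (FreeGroup.map Sum.inr u) = ιB (FreeGroup.lift vB u) from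
        DFunLike.congr_fun hlB u, hvB u hu, map_one]
    · rw [map_mul, map_inv, hWA, hWB, mul_inv_eq_one]; rfl
    · rw [map_mul, map_inv, hWA, hWB, mul_inv_eq_one]; rfl
    · rw [map_commutatorElement, hWA, hWB, commutatorElement_eq_one_iff_commute]
      exact Subtype.ext (sides_commute hs he hc x0.2 y0.2).eq
    · rw [map_commutatorElement, hWA, hWB, commutatorElement_eq_one_iff_commute]
      exact Subtype.ext (sides_commute hs he hc x0.2 y1.2).eq
  · rw [eq_top_iff]
    rintro ⟨g, hg⟩ -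
    have hle : Cs a b (sA ∪ sB) ≤
        (Subgroup.closure (Set.range v)).map (Cs a b (sA ∪ sB)).subtype := by
      refine (Subgroup.closure_le _).2 ?_
      rintro _ ⟨i, hi, rfl⟩
      rcases Finset.mem_union.1 (Finset.mem_coe.1 hi) with h | h
      · refine Subgroup.mem_map.2 ⟨ιA (cel a b sA i), ?_, ?_⟩
        · rw [← hWA]; exact lift_mem_closure v _
        · rw [Subgroup.coe_subtype, Subgroup.coe_inclusion, cel_val h]
      · refine Subgroup.mem_map.2 ⟨ιB (cel a b sB i), ?_, ?_⟩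
        · rw [← hWB]; exact lift_mem_closure v _
        · rw [Subgroup.coe_subtype, Subgroup.coe_inclusion, cel_val h]
    obtain ⟨y', hy', hyg⟩ := hle hg
    obtain rfl : y' = ⟨g, hg⟩ := Subtype.ext hyg
    exact hy'
  · intro G _ w hw _
    have hw' : ∀ z ∈ R, FreeGroup.lift w z = 1 := hw
    simp only [R, Finset.mem_union] at hw'
    obtain ⟨φA, hφA⟩ := huA G (w ∘ Sum.inl) fun z hz => by
      refine (DFunLike.congr_fun (f := FreeGroup.lift (w ∘ Sum.inl))
        (g := (FreeGroup.lift w).comp (FreeGroup.map Sum.inl)) (FreeGroup.ext_hom _ _ fun i => by simp) z).trans ?_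
      exact hw' _ (Or.inl (Or.inl (Finset.mem_image_of_mem _ hz)))
    obtain ⟨φB, hφB⟩ := huB G (w ∘ Sum.inr) fun z hz => by
      refine (DFunLike.congr_fun (f := FreeGroup.lift (w ∘ Sum.inr))
        (g := (FreeGroup.lift w).comp (FreeGroup.map Sum.inr)) (FreeGroup.ext_hom _ _ fun i => by simp) z).trans ?_
      exact hw' _ (Or.inl (Or.inr (Finset.mem_image_of_mem _ hz)))
    have hwA : ∀ g, FreeGroup.lift w (WA g) = φA g := fun g => by
      refine (DFunLike.congr_fun (f := (FreeGroup.lift w).comp (FreeGroup.map Sum.inl))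
        (g := φA.comp (FreeGroup.lift vA)) (FreeGroup.ext_hom _ _ fun i => by simp [hφA]) (preA g)).trans ?_
      rw [MonoidHom.comp_apply, hpreA]
    have hwB : ∀ g, FreeGroup.lift w (WB g) = φB g := fun g => by
      refine (DFunLike.congr_fun (f := (FreeGroup.lift w).comp (FreeGroup.map Sum.inr))
        (g := φB.comp (FreeGroup.lift vB)) (FreeGroup.ext_hom _ _ fun i => by simp [hφB]) (preB g)).trans ?_
      rw [MonoidHom.comp_apply, hpreB]
    have hl : ∀ z ∈ L, FreeGroup.lift w z = 1 := fun z hz => hw' z (Or.inr (List.mem_toFinset.2 hz))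
    simp only [L, List.mem_cons, List.not_mem_nil, or_false, forall_eq_or_imp, forall_eq, map_mul, map_inv,
      map_commutatorElement, hwA, hwB, mul_inv_eq_one, commutatorElement_eq_one_iff_commute] at hl
    obtain ⟨l1, l2, l3, l4⟩ := hl
    have hO : φA.comp oA = φB.comp oB := ho G _ _ l1 l2
    have hcm := glue_comm hs he hc hec φA φB σ (exchange_eq hGO he hc hec) hO x0 hxgen y0 y1 rfl hygen l3 l4
    obtain ⟨f, fA, fB⟩ := glue_hom hs he hc hec φA φB hO hcm
    refine ⟨f, fun i => ?_⟩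
    rcases i with i | i
    · exact (DFunLike.congr_fun fA (vA i)).trans (hφA i)
    · exact (DFunLike.congr_fun fB (vB i)).trans (hφB i)

end overlap

theorem presG_small (hS : Good a b S) : PresG (Cs a b S) S.card (S.card + S.card * S.card) := by
  classical
  let k := S.card
  let e : Fin k ≃ {x // x ∈ S} := S.equivFin.symm
  let v : Fin k → Cs a b S := fun i => ⟨cyc a b (e i), cyc_mem (e i).2⟩
  have hg : Subgroup.closure (Set.range v) = ⊤ := by
    rw [eq_top_iff]
    rintro ⟨g, hg⟩ -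
    have : Subgroup.closure (cyc a b '' (S : Set Ω)) ≤
        (Subgroup.closure (Set.range v)).map (Cs a b S).subtype := by
      rw [Subgroup.closure_le]
      rintro _ ⟨i, hi, rfl⟩
      refine ⟨v (e.symm ⟨i, Finset.mem_coe.1 hi⟩), Subgroup.subset_closure ⟨_, rfl⟩, ?_⟩
      simp [v]
    obtain ⟨y, hy, hyg⟩ := this hg
    obtain rfl : y = ⟨g, hg⟩ := Subtype.ext hyg
    exact hy
  let R : Finset (FreeGroup (Fin k)) := (Finset.univ.image fun i => FreeGroup.of i ^ 3) ∪
    (Finset.univ.image fun q : Fin k × Fin k =>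
      if q.1 = q.2 then 1 else (FreeGroup.of q.1 * FreeGroup.of q.2) ^ 2)
  have hRk : R.card ≤ k + k * k := by
    refine (Finset.card_union_le _ _).trans (Nat.add_le_add ?_ ?_) <;>
      refine Finset.card_image_le.trans (le_of_eq ?_) <;> simp
  refine (PresG.of_data R hRk v ?_ hg ?_).pad (le_of_eq (Fintype.card_fin k))
    (by simp only [k, Fintype.card_fin]; omega)
  · intro x hx
    simp only [R, Finset.mem_union, Finset.mem_image, Finset.mem_univ, true_and] at hx
    rcases hx with ⟨i, rfl⟩ | ⟨⟨i, j⟩, rfl⟩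
    · rw [map_pow, FreeGroup.lift_apply_of]
      exact Subtype.ext ((carRel_cyc hS).cube _ (e i).2)
    · split_ifs with hij
      · exact map_one _
      · rw [map_pow, map_mul, FreeGroup.lift_apply_of, FreeGroup.lift_apply_of]
        exact Subtype.ext ((carRel_cyc hS).pair _ (e i).2 _ (e j).2
          fun h => hij (e.injective (Subtype.ext h)))
  · intro G _ w hw _
    have hR1 : ∀ i, w i ^ 3 = 1 := fun i => by
      simpa using hw _ (Finset.mem_union_left _ (Finset.mem_image.2 ⟨i, Finset.mem_univ _, rfl⟩))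
    have hR2 : ∀ i j, i ≠ j → (w i * w j) ^ 2 = 1 := fun i j hij => by
      simpa [hij] using hw _ (Finset.mem_union_right _ (Finset.mem_image.2 ⟨(i, j), Finset.mem_univ _, rfl⟩))
    let X : Ω → G := fun x => if h : x ∈ S then w (e.symm ⟨x, h⟩) else 1
    obtain ⟨f, hf⟩ := car_hom hS X ⟨fun i hi => by simp only [X, dif_pos hi, hR1],
      fun i hi j hj hij => by
        simp only [X, dif_pos hi, dif_pos hj]
        exact hR2 _ _ fun h => hij (congrArg Subtype.val (e.symm.injective h))⟩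
    refine ⟨f, fun i => ?_⟩
    rw [show v i = ⟨cyc a b (e i), cyc_mem (e i).2⟩ from rfl, hf _ (e i).2]
    simp [X]

/-- Alternating groups on four generators and sixteen relations. -/
theorem presG_Cs (hs : Good a b S) : PresG (Cs a b S) 4 16 := by
  classical
  by_cases h2 : S.card ≤ 2
  · exact (presG_small hs).pad (by omega) (by
      have : S.card * S.card ≤ 2 * S.card := Nat.mul_le_mul_right _ h2
      omega)
  obtain ⟨p, hp, hpm, hm2, hp2⟩ : ∃ p, p.Prime ∧ p ≤ S.card ∧ (S.card ≤ 2 * p - 2 ∨ p = S.card) ∧ p ≠ 2 := by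
    obtain ⟨p, hp, h1, h2'⟩ := Nat.exists_prime_lt_and_le_two_mul ((S.card + 1) / 2) (by omega)
    have hne2 : p ≠ 2 := by omega
    have hodd : p % 2 = 1 := (hp.eq_two_or_odd).resolve_left hne2
    exact ⟨p, hp, by omega, by omega, hne2⟩
  rcases eq_or_ne p S.card with hc | hc
  · exact (presG_prime hs hp hp2 hc.symm).pad (by norm_num) (by norm_num)
  have hm : S.card ≤ 2 * p - 2 := hm2.resolve_right hc
  obtain ⟨sA, hsA, hA⟩ := Finset.exists_subset_card_eq hpm
  have hcd : (S \ sA).card ≤ p := by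
    rw [Finset.card_sdiff_of_subset hsA]; omega
  obtain ⟨sB, hB1, hB2, hB⟩ := Finset.exists_subsuperset_card_eq Finset.sdiff_subset hcd hpm
  have hu : sA ∪ sB = S := by
    refine Finset.Subset.antisymm (Finset.union_subset hsA hB2) fun x hx => ?_
    by_cases h : x ∈ sA
    · exact Finset.mem_union_left _ h
    · exact Finset.mem_union_right _ (hB1 (Finset.mem_sdiff.2 ⟨hx, h⟩))
  have hO : 1 < (sA ∩ sB).card := by
    have := Finset.card_union_add_card_inter sA sB
    rw [hu, hA, hB] at this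
    omega
  obtain ⟨e, he, c, hc', hec⟩ := Finset.one_lt_card.1 hO
  rw [← hu]
  exact presG_glue (hu ▸ hs) he hc' hec (presG_prime (hs.subset hsA) hp hp2 hA)
    (presG_prime (hs.subset hB2) hp hp2 hB)

end Cfsg.Agent.BoundedPres
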