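import Cfsg.Agent.Lib.BoundedPres.Short.Glue

/-!
Symmetric groups on five generators and eighteen relations.
-/

set_option autoImplicit false
set_option linter.unusedSectionVars false

namespace Cfsg.Agent.BoundedPres

open Equiv

variable {α : Type*} [Fintype α] [DecidableEq α] {a b : α} {s : Finset α}

theorem presG_perm_of (hs : Good a b s) (hfull : ∀ x, x ≠ a → x ≠ b → x ∈ s) {g r : ℕ}
    (hA : PresG (Cs a b s) g r) : PresG (Perm α) (g + 1) (r + 2) := by
  classical
  have hCA : Cs a b s = alternatingGroup α := Cs_eq_alternating hs hfull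
  obtain ⟨β, hβ, RA, vA, hg, hRA, hvA, hgenA, huA⟩ := hA.exists_data
  obtain ⟨x, hx, -, hxgen⟩ := exists_gen_flip hs
  choose preA hpreA using fun x => exists_word vA (t := x) (hgenA ▸ Subgroup.mem_top x)
  set t0 : Perm α := swap a b with ht0
  have htt : t0 * t0 = 1 := swap_mul_self a b
  have hti : t0⁻¹ = t0 := swap_inv a b
  let x0 : Cs a b s := ⟨x, hx⟩
  let cj : Cs a b s →* Cs a b s :=
    ((MulAut.conj t0).toMonoidHom.comp (Cs a b s).subtype).codRestrict _ fun y => flip_mem y.2
  let W : Cs a b s → FreeGroup (β ⊕ Unit) := fun y => FreeGroup.map Sum.inl (preA y)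
  let tt : FreeGroup (β ⊕ Unit) := FreeGroup.of (Sum.inr ())
  let R := RA.image (FreeGroup.map Sum.inl) ∪ {tt * W x0 * tt⁻¹ * (W (cj x0))⁻¹, tt * tt}
  have hcard : R.card ≤ RA.card + 2 :=
    (Finset.card_union_le _ _).trans (Nat.add_le_add Finset.card_image_le Finset.card_le_two)
  let v : β ⊕ Unit → Perm α := Sum.elim (fun i => (vA i : Perm α)) fun _ => t0
  have hl : (FreeGroup.lift v).comp (FreeGroup.map Sum.inl) =
      (Cs a b s).subtype.comp (FreeGroup.lift vA) :=
    FreeGroup.ext_hom _ _ fun i => by simp [v]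
  have hvW : ∀ y, FreeGroup.lift v (W y) = (y : Perm α) := fun y => by
    refine (DFunLike.congr_fun hl (preA y)).trans ?_
    rw [MonoidHom.comp_apply, hpreA]; rfl
  have hvt : FreeGroup.lift v tt = t0 := FreeGroup.lift_apply_of
  have hsg : Perm.sign t0 = -1 := Perm.sign_swap hs.ne
  refine (PresG.of_data R hcard v ?_ ?_ ?_).pad
    (by simp only [Fintype.card_sum, Fintype.card_unit]; omega)
    (by simp only [Fintype.card_sum, Fintype.card_unit]; omega)
  · intro y hy
    simp only [R, Finset.mem_union, Finset.mem_image, Finset.mem_insert, Finset.mem_singleton] at hy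
    rcases hy with ⟨u, hu, rfl⟩ | rfl | rfl
    · rw [show FreeGroup.lift v (FreeGroup.map Sum.inl u) = (Cs a b s).subtype (FreeGroup.lift vA u) from
        DFunLike.congr_fun hl u, hvA u hu, map_one]
    · rw [map_mul, map_mul, map_mul, map_inv, map_inv, hvW, hvW, hvt, mul_inv_eq_one]
      rfl
    · rw [map_mul, hvt, htt]
  · have hA : ∀ σ : Perm α, σ ∈ Cs a b s → σ ∈ Subgroup.closure (Set.range v) := fun σ hσ => by
      rw [show σ = FreeGroup.lift v (W ⟨σ, hσ⟩) from (hvW ⟨σ, hσ⟩).symm]
      exact lift_mem_closure v _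
    rw [eq_top_iff]
    intro σ _
    rcases Int.units_eq_one_or (Perm.sign σ) with h | h
    · exact hA σ (hCA ▸ Perm.mem_alternatingGroup.2 h)
    · have := mul_mem (hA (σ * t0) (hCA ▸ Perm.mem_alternatingGroup.2 (by rw [map_mul, h, hsg]; rfl)))
        (hvt ▸ lift_mem_closure v tt : t0 ∈ Subgroup.closure (Set.range v))
      rwa [mul_assoc, htt, mul_one] at this
  · intro G _ w hw _
    have hw' : ∀ y ∈ R, FreeGroup.lift w y = 1 := hw
    simp only [R, Finset.mem_union] at hw'
    obtain ⟨φ, hφ⟩ := huA G (w ∘ Sum.inl) fun u hu => by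
      refine (DFunLike.congr_fun (f := FreeGroup.lift (w ∘ Sum.inl))
        (g := (FreeGroup.lift w).comp (FreeGroup.map Sum.inl)) (FreeGroup.ext_hom _ _ fun i => by simp) u).trans ?_
      exact hw' _ (Or.inl (Finset.mem_image_of_mem _ hu))
    have hwW : ∀ y, FreeGroup.lift w (W y) = φ y := fun y => by
      refine (DFunLike.congr_fun (f := (FreeGroup.lift w).comp (FreeGroup.map Sum.inl))
        (g := φ.comp (FreeGroup.lift vA)) (FreeGroup.ext_hom _ _ fun i => by simp [hφ]) (preA y)).trans ?_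
      rw [MonoidHom.comp_apply, hpreA]
    set t := w (Sum.inr ()) with ht
    have hwt : FreeGroup.lift w tt = t := FreeGroup.lift_apply_of
    have h1 := hw' _ (Or.inr (Finset.mem_insert_self _ _))
    have h2 := hw' _ (Or.inr (Finset.mem_insert_of_mem (Finset.mem_singleton_self _)))
    rw [map_mul, map_mul, map_mul, map_inv, map_inv, hwW, hwW, hwt, mul_inv_eq_one] at h1
    rw [map_mul, hwt] at h2
    have hti' : t⁻¹ = t := inv_eq_of_mul_eq_one_right h2
    have hcx : cj (cj x0) = x0 := Subtype.ext (by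
      show t0 * (t0 * x * t0⁻¹) * t0⁻¹ = x
      rw [hti, show t0 * (t0 * x * t0) * t0 = (t0 * t0) * x * (t0 * t0) by group, htt, one_mul, mul_one])
    have hcj : ∀ y, t * φ y * t⁻¹ = φ (cj y) := by
      have hh : (MulAut.conj t).toMonoidHom.comp φ = φ.comp cj := by
        refine hom_ext fun i hi => ?_
        have hK := hxgen ((((MulAut.conj t).toMonoidHom.comp φ).eqLocus (φ.comp cj)).map (Cs a b s).subtype)
          ⟨x0, h1, rfl⟩ ⟨cj x0, by
            show t * φ (cj x0) * t⁻¹ = φ (cj (cj x0))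
            rw [hcx, ← h1, hti', show t * (t * φ x0 * t) * t = (t * t) * φ x0 * (t * t) by group, h2,
              one_mul, mul_one], rfl⟩ (cyc_mem hi)
        obtain ⟨y, hy, hyv⟩ := hK
        exact (Subtype.ext hyv : y = ⟨cyc a b i, cyc_mem hi⟩) ▸ hy
      exact fun y => DFunLike.congr_fun hh y
    have hsplit : ∀ σ : Perm α, ∃ y : Cs a b s, σ = y ∨ σ = (y : Perm α) * t0 := fun σ => by
      rcases Int.units_eq_one_or (Perm.sign σ) with h | h
      · exact ⟨⟨σ, hCA ▸ Perm.mem_alternatingGroup.2 h⟩, Or.inl rfl⟩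
      · exact ⟨⟨σ * t0, hCA ▸ Perm.mem_alternatingGroup.2 (by rw [map_mul, h, hsg]; rfl)⟩,
          Or.inr (by show σ = σ * t0 * t0; rw [mul_assoc, htt, mul_one])⟩
    have heven : ∀ y : Cs a b s, Perm.sign (y : Perm α) = 1 := fun y =>
      Perm.mem_alternatingGroup.1 (hCA ▸ y.2 : (y : Perm α) ∈ alternatingGroup α)
    let ev : Perm α → G := fun σ =>
      if h : Perm.sign σ = 1 then φ ⟨σ, hCA ▸ Perm.mem_alternatingGroup.2 h⟩
      else φ ⟨σ * t0, hCA ▸ Perm.mem_alternatingGroup.2 (by
        rw [map_mul, (Int.units_eq_one_or _).resolve_left h, hsg]; rfl)⟩ * t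
    have ev_e : ∀ y : Cs a b s, ev (y : Perm α) = φ y := fun y => dif_pos (heven y)
    have ev_o : ∀ y : Cs a b s, ev ((y : Perm α) * t0) = φ y * t := fun y => by
      have h : ¬ Perm.sign ((y : Perm α) * t0) = 1 := by rw [map_mul, heven, hsg]; decide
      simp only [ev, dif_neg h]
      congr 2
      exact Subtype.ext (by show (y : Perm α) * t0 * t0 = y; rw [mul_assoc, htt, mul_one])
    have hc : ∀ y, t * φ y = φ (cj y) * t := fun y => mul_inv_eq_iff_eq_mul.1 (hcj y)
    have hmul : ∀ σ τ, ev (σ * τ) = ev σ * ev τ := by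
      intro σ τ
      obtain ⟨x, rfl | rfl⟩ := hsplit σ <;> obtain ⟨y, rfl | rfl⟩ := hsplit τ
      · rw [ev_e, ev_e, show (x : Perm α) * y = ((x * y : Cs a b s) : Perm α) from rfl, ev_e, map_mul]
      · rw [ev_e, ev_o, ← mul_assoc, show (x : Perm α) * y = ((x * y : Cs a b s) : Perm α) from rfl,
          ev_o, map_mul, mul_assoc]
      · rw [ev_o, ev_e, show (x : Perm α) * t0 * y = ((x * cj y : Cs a b s) : Perm α) * t0 by
            show _ = (x : Perm α) * (t0 * y * t0⁻¹) * t0
            group, ev_o, map_mul, mul_assoc, mul_assoc, hc]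
      · rw [ev_o, ev_o, show (x : Perm α) * t0 * ((y : Perm α) * t0) = ((x * cj y : Cs a b s) : Perm α) by
            show _ = (x : Perm α) * (t0 * y * t0⁻¹)
            rw [hti]; group, ev_e, map_mul,
          show φ x * t * (φ y * t) = φ x * (t * φ y) * t by group, hc,
          show φ x * (φ (cj y) * t) * t = φ x * φ (cj y) * (t * t) by group, h2, mul_one]
    refine ⟨MonoidHom.mk' ev hmul, fun i => ?_⟩
    rcases i with i | i
    · exact (ev_e (vA i)).trans (hφ i)
    · show ev t0 = t
      have := ev_o 1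
      rwa [map_one, one_mul, OneMemClass.coe_one, one_mul] at this

/-- Symmetric groups on at least two letters. -/
theorem presG_perm (n : ℕ) (hn : 2 ≤ n) : PresG (Perm (Fin n)) 5 18 := by
  let a : Fin n := ⟨0, by omega⟩
  let b : Fin n := ⟨1, by omega⟩
  have hs : Good a b (Finset.univ \ {a, b}) := ⟨by simp [a, b, Fin.ext_iff], by simp, by simp⟩
  exact presG_perm_of hs (fun x hxa hxb => by simp [hxa, hxb]) (presG_Cs hs)

theorem presG_perm_three : PresG (Perm (Fin 3)) 2 4 := by
  have hs : Good (0 : Fin 3) 1 {2} := ⟨by decide, by decide, by decide⟩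
  exact presG_perm_of hs (by decide) (presG_small hs)

end Cfsg.Agent.BoundedPres
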